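import Mathlib.AlgebraicGeometry.Morphisms.Etale
import Mathlib.AlgebraicGeometry.Morphisms.QuasiFinite
import Mathlib.AlgebraicGeometry.Limits
import Mathlib.RingTheory.Etale.Field

/-!
# Schemes étale over a field
-/

universe u

open CategoryTheory CategoryTheory.Limits AlgebraicGeometry Opposite

namespace Groth.Agent.EtField24

variable {k : Type u} [Field k]

theorem etale_of_coprod {U : Scheme.{u}} (φ : U ⟶ Spec (CommRingCat.of k)) {ι : Type u}
    (K : ι → Type u) [∀ i, Field (K i)] [∀ i, Algebra k (K i)] [∀ i, FiniteDimensional k (K i)]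
    [∀ i, Algebra.IsSeparable k (K i)] (e : (∐ fun i => Spec (CommRingCat.of (K i))) ≅ U)
    (he : ∀ i, Sigma.ι (fun i => Spec (CommRingCat.of (K i))) i ≫ e.hom ≫ φ =
      Spec.map (CommRingCat.ofHom (algebraMap k (K i)))) :
    AlgebraicGeometry.Etale φ := by
  have h : AlgebraicGeometry.Etale (e.hom ≫ φ) := by
    rw [IsZariskiLocalAtSource.iff_of_openCover (P := @AlgebraicGeometry.Etale)
      (sigmaOpenCover fun i => Spec (CommRingCat.of (K i)))]
    intro i
    show AlgebraicGeometry.Etale (Sigma.ι (fun i => Spec (CommRingCat.of (K i))) i ≫ e.hom ≫ φ)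
    rw [he i]
    haveI : Algebra.FormallyEtale k (K i) := Algebra.FormallyEtale.of_isSeparable k (K i)
    haveI : Algebra.Etale k (K i) := ⟨inferInstance, Algebra.FinitePresentation.of_finiteType.mp
      inferInstance⟩
    exact HasRingHomProperty.Spec_iff.2 (RingHom.etale_algebraMap.2 inferInstance)
  rw [← Iso.inv_hom_id_assoc e φ]
  infer_instance

/-- A reduced ring with a unique prime is a field. -/
theorem isField_of_subsingleton_spec {R : Type u} [CommRing R] [IsReduced R] [Nontrivial R]
    (h : Subsingleton (PrimeSpectrum R)) : IsField R := by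
  refine ⟨exists_pair_ne R, mul_comm, fun {a} ha => ?_⟩
  by_contra hu
  refine ha (IsNilpotent.eq_zero (nilpotent_iff_mem_prime.2 fun J hJ => ?_))
  have hu' : ¬ IsUnit a := fun hh => hu ⟨_, hh.mul_val_inv⟩
  obtain ⟨M, hM, haM⟩ := exists_max_ideal_of_mem_nonunits hu'
  have e : (⟨J, hJ⟩ : PrimeSpectrum R) = ⟨M, hM.isPrime⟩ := Subsingleton.elim _ _
  rw [show J = M from congrArg PrimeSpectrum.asIdeal e]
  exact haM

theorem exists_coprod_of_etale {U : Scheme.{u}} (φ : U ⟶ Spec (CommRingCat.of k))
    [AlgebraicGeometry.Etale φ] :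
    ∃ (ι : Type u) (K : ι → Type u) (_ : ∀ i, Field (K i)) (_ : ∀ i, Algebra k (K i))
      (_ : ∀ i, FiniteDimensional k (K i)) (_ : ∀ i, Algebra.IsSeparable k (K i))
      (e : (∐ fun i => Spec (CommRingCat.of (K i))) ≅ U),
      ∀ i, Sigma.ι (fun i => Spec (CommRingCat.of (K i))) i ≫ e.hom ≫ φ =
        Spec.map (CommRingCat.ofHom (algebraMap k (K i))) := by
  haveI : IsLocallyArtinian U := (isLocallyArtinian_iff_openCover U.affineCover).mpr fun i => by
    obtain ⟨R, hR⟩ : ∃ R, U.affineCover.X i = Spec R := ⟨_, rfl⟩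
    let j : Spec R ⟶ U := eqToHom hR.symm ≫ U.affineCover.f i
    let θ := Spec.preimage (j ≫ φ)
    letI : Algebra k R := θ.hom.toAlgebra
    haveI : Algebra.Etale k R := by
      have h : AlgebraicGeometry.Etale (Spec.map θ) := by rw [Spec.map_preimage]; infer_instance
      exact RingHom.etale_algebraMap.1 (HasRingHomProperty.Spec_iff.1 h)
    haveI : Module.Finite k R := Algebra.FormallyUnramified.finite_of_free k R
    rw [hR]
    exact Scheme.isLocallyArtinianScheme_Spec.mpr (IsArtinianRing.of_finite k R)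
  let W : U → U.Opens := fun x => ⟨{x}, isOpen_discrete _⟩
  have hW : ∀ x, IsAffineOpen (W x) := fun x => by
    haveI : Finite (W x : Scheme) := inferInstanceAs (Finite ({x} : Set U))
    haveI : DiscreteTopology (W x : Scheme) := inferInstanceAs (DiscreteTopology ({x} : Set U))
    exact inferInstanceAs (IsAffine (W x : Scheme))
  let ψ : ∀ x, CommRingCat.of k ⟶ Γ(U, W x) := fun x => Spec.preimage ((hW x).fromSpec ≫ φ)
  letI alg : ∀ x, Algebra k Γ(U, W x) := fun x => (ψ x).hom.toAlgebra
  have hψ : ∀ x, Spec.map (ψ x) = (hW x).fromSpec ≫ φ := fun x => Spec.map_preimage _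
  have het : ∀ x, Algebra.Etale k Γ(U, W x) := fun x => by
    have h : AlgebraicGeometry.Etale (Spec.map (ψ x)) := by rw [hψ]; infer_instance
    exact RingHom.etale_algebraMap.1 (HasRingHomProperty.Spec_iff.1 h)
  have hF : ∀ x, IsField Γ(U, W x) := fun x => by
    haveI := het x
    haveI : IsReduced Γ(U, W x) := Algebra.FormallyUnramified.isReduced_of_field k _
    have hr : ∀ z, (hW x).fromSpec z = x := fun z => by
      have hz : (hW x).fromSpec z ∈ Set.range (hW x).fromSpec := ⟨z, rfl⟩
      rwa [(hW x).range_fromSpec] at hz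
    haveI : Nontrivial Γ(U, W x) := by
      obtain ⟨z, -⟩ : x ∈ Set.range (hW x).fromSpec := by
        rw [(hW x).range_fromSpec]; rfl
      exact PrimeSpectrum.nontrivial z
    exact isField_of_subsingleton_spec
      ⟨fun a b => (hW x).fromSpec.isOpenEmbedding.injective ((hr a).trans (hr b).symm)⟩
  letI : ∀ x, Field Γ(U, W x) := fun x => (hF x).toField
  let α : ∀ x : U, Spec (CommRingCat.of Γ(U, W x)) ⟶ U := fun x => (hW x).fromSpec
  haveI : IsOpenImmersion (Sigma.desc α) := isOpenImmersion_sigmaDesc _ α fun x y hxy => by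
    show Disjoint (Set.range (hW x).fromSpec) (Set.range (hW y).fromSpec)
    rw [(hW x).range_fromSpec, (hW y).range_fromSpec]
    exact Set.disjoint_singleton.2 hxy
  haveI : Surjective (Sigma.desc α) := ⟨fun x => by
    obtain ⟨z, hz⟩ : x ∈ Set.range (hW x).fromSpec := by
      rw [(hW x).range_fromSpec]; rfl
    exact ⟨Sigma.ι (fun x => Spec (CommRingCat.of Γ(U, W x))) x z, by
      rw [← Scheme.Hom.comp_apply, Sigma.ι_desc]; exact hz⟩⟩
  haveI : IsIso (Sigma.desc α) := (isIso_iff_isOpenImmersion_and_surjective _).2 ⟨‹_›, ‹_›⟩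
  have hfin : ∀ x, Module.Finite k Γ(U, W x) := fun x => by
    haveI := het x
    exact Algebra.FormallyUnramified.finite_of_free k _
  refine ⟨U, fun x => Γ(U, W x), inferInstance, alg, hfin, fun x => ?_, asIso (Sigma.desc α),
    fun x => ?_⟩
  · haveI := het x
    exact Algebra.FormallyUnramified.isSeparable k _
  · rw [asIso_hom, Sigma.ι_desc_assoc]
    exact (hψ x).symm

end Groth.Agent.EtField24
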